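import Cfsg.Agent.Lib.GlSz.G5
import Cfsg.Agent.Lib.Gold.Top
import Cfsg.Agent.Lib.BSE14.Cor2
import Cfsg.Agent.Lib.Suz.Zass
import Cfsg.Agent.Lib.Invol.StronglyEmbedded

/-! The prime `2`: Suzuki groups. -/

set_option autoImplicit false
set_option linter.unusedSectionVars false
set_option linter.style.haveILetI false

namespace H24.Gl

open Cfsg Subgroup H13.Suz H40.RankOne

variable {G : Type*} [Group G] [Finite G] [hp : Fact (Nat.Prime 2)] {P : Sylow 2 G}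

theorem Hyp.sz_of_setup (h : Hyp P) {Ω : Type*} [MulAction G Ω] [FaithfulSMul G Ω] {a : Ω} {t : G}
    (hS : IsRankOneSetup G Ω a t P) (h2 : Rank2 G)
    (hd : ¬ (IsElementaryAbelian 2 (P : Subgroup G) ∧ ∀ x ∈ (P : Subgroup G), ∀ y ∈ (P : Subgroup G),
      x ≠ 1 → y ≠ 1 → ∃ g : G, g * x * g⁻¹ = y)) : Lie.IsoSuzuki G := by
  have hV : VV G a t = ⊥ := by
    refine eq_bot_iff.2 fun v hv => mem_bot.2 ?_
    obtain ⟨hv1, hv2⟩ := mem_VV.1 hv
    obtain ⟨s, hs, r, hr, e⟩ := exists_structure hS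
    have h1 := (comm_s_of_comm_t hS hs hr e hv1 hv2).1
    have h3 := h.cent_of_comm (n := v) (by rw [H14.BSE.normalizer_Q hS]; exact hv1.1)
      (H35.not_dvd_orderOf_of_mem (Nat.two_dvd_ne_zero.2 (Nat.odd_iff.1 hS.odd_card)) hv1)
      (II_subset_Q hS hs) (mem_inv_iff.1 hs).2.1 h1.symm
    refine eq_of_smul_eq_smul (α := Ω) fun b => ?_
    rw [one_smul]
    by_cases hb : b = a
    · rw [hb]; exact (mem_DD.1 hv1).1
    · obtain ⟨x, hx, rfl⟩ := exists_Q_smul_ta hS hb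
      rw [← mul_smul, ← h3 x hx, mul_smul, (mem_DD.1 hv1).2]
  have hst : ∀ g : G, g • a = a → g ∈ LL t (P : Subgroup G) := fun g hg => by
    obtain ⟨q, hq, d, hd, rfl⟩ := decomp hS hg
    obtain ⟨v, hv, hvt, k, hk, rfl⟩ := exists_V_mul_K hS hd
    rw [show v = 1 from mem_bot.1 (hV ▸ mem_VV.2 ⟨hv, hvt⟩), one_mul, ← mul_tt hS k]
    exact mul_mem (le_LL _ _ hq) (mul_mem (inv_mem_LL hS (K_mul_t_sq hS hk)) (t_mem_LL _ _))
  have hL : LL t (P : Subgroup G) = ⊤ := eq_top_iff.2 fun g _ => by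
    by_cases hg : g • a = a
    · exact hst g hg
    · obtain ⟨x, hx, y, hy, rfl⟩ := canonical hS hg
      exact mul_mem (mul_mem (hst x hx) (t_mem_LL _ _)) (le_LL _ _ hy)
  let e : G ≃* LL t (P : Subgroup G) := topEquiv.symm.trans (MulEquiv.subgroupCongr hL.symm)
  haveI := isSimpleGroup_LL hS h2
  haveI : IsSimpleGroup G := e.isSimpleGroup
  obtain ⟨hQ, hab⟩ := isPGroup_Q hS h2
  by_cases hc : ∀ x ∈ (P : Subgroup G), ∀ y ∈ (P : Subgroup G), x * y = y * x
  · exact absurd ⟨⟨⟨⟨fun x y => Subtype.ext (hc x x.2 y y.2)⟩⟩, fun x hx => by rw [sq, hab hc x hx]⟩,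
      fun x hx y hy hx1 hy1 => isConj_iff.1 (isConj_of_inv hS hx1 (hab hc x hx) hy1 (hab hc y hy))⟩ hd
  have hna : ∃ x ∈ (P : Subgroup G), ∃ y ∈ (P : Subgroup G), x * y ≠ y * x := by
    by_contra h
    push Not at h
    exact hc h
  have h4 := card_eq_sq_of_V_eq_bot hS h2 hV hQ hna
  obtain ⟨F, _, _, _, -, ⟨c⟩⟩ := exists_TA hS h2 (sq_mem_Q0 hS h2 hQ hna) h4 (not_O3_of_sq hS h2 h4)
  obtain ⟨m, hm, hF, ⟨f⟩⟩ := sz_of_TA hS c
  exact ⟨F, _, _, m, hm, hF, ⟨e.trans f⟩⟩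

theorem Hyp.suzuki (h : Hyp P) (hO : pPrimeCore 2 G = ⊥) (hnn : ¬ (P : Subgroup G).Normal)
    (hd : ¬ (IsElementaryAbelian 2 (P : Subgroup G) ∧ ∀ x ∈ (P : Subgroup G), ∀ y ∈ (P : Subgroup G),
      x ≠ 1 → y ≠ 1 → ∃ g : G, g * x * g⁻¹ = y)) : Lie.IsoSuzuki G := by
  obtain ⟨hs, hn⟩ := h.simple_closure hO hnn
  set L := normalClosure ((P : Subgroup G) : Set G)
  have hle : (P : Subgroup G) ≤ L := le_normalClosure
  have hP : (P : Subgroup G) ≠ ⊥ := fun e => hnn (e ▸ inferInstance)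
  obtain ⟨a, ha, ha1⟩ := exists_AA P.isPGroup' hP
  have hea : IsElementaryAbelian 2 (AA 2 (P : Subgroup G)) :=
    ⟨⟨⟨fun x y => Subtype.ext (AA_comm y.2 (AA_le _ x.2))⟩⟩, fun _ hx => hx.2⟩
  have hsc : Gold.SC (AA 2 (P : Subgroup G)) L := by
    refine ⟨(AA_le _).trans hle, fun Q hQ hAQ g _ b hb hb' => ?_⟩
    obtain ⟨w, hw⟩ := H4.exists_conj_smul_le_sylow P hQ
    have key : ∀ {x y : G}, x ∈ AA 2 (P : Subgroup G) → IsConj x y → y ∈ Q →
        w * y * w⁻¹ ∈ AA 2 (P : Subgroup G) := fun hx hc hy =>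
      h.scA hx (hw ⟨_, hy, rfl⟩) (hc.trans (isConj_iff.2 ⟨w, rfl⟩))
    let φ : AA 2 (P : Subgroup G) → AA 2 (P : Subgroup G) := fun z =>
      ⟨w * z * w⁻¹, key z.2 (IsConj.refl _) (hAQ z.2)⟩
    have hφ : Function.Injective φ := fun z z' e =>
      Subtype.ext (by simpa [φ] using e)
    obtain ⟨z, hz⟩ := Finite.injective_iff_surjective.1 hφ ⟨_, key hb (isConj_iff.2 ⟨g, rfl⟩) hb'⟩
    have : (z : G) = g * b * g⁻¹ := (MulAut.conj w).injective (congrArg Subtype.val hz)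
    exact this ▸ z.2
  rcases Gold.gs_amb hs (fun hc => hn ⟨fun n hn g => by
    rwa [hc.1.1 g n, mul_inv_cancel_right]⟩) _ hea
    (fun e => ha1 (by rw [e] at ha; exact ha)) hsc with ⟨T, hT⟩ | hT
  · have hSL : ∀ S : Sylow 2 G, (S : Subgroup G) ≤ L := fun S x hx => by
      obtain ⟨k, hk⟩ := (H35.isPElt_of_mem S.isPGroup' hx).exists_conj_mem P
      have := normalClosure_normal.conj_mem _ (hle hk) k⁻¹
      rwa [show k⁻¹ * (k * x * k⁻¹) * k⁻¹⁻¹ = x by group] at this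
    obtain ⟨S, hS⟩ := hT.syl.isP.exists_le_sylow
    obtain rfl : (S : Subgroup G) = T := hT.syl.max _ hS (hSL S) S.isPGroup'
    have hH : IsStronglyEmbedded (normalizer ((S : Subgroup G) : Set G)) := by
      refine H9.isStronglyEmbedded_iff.2 ⟨fun e => hT.nn (e ▸ le_top), ?_, fun t ht ho g hg => ?_⟩
      · have := orderOf_dvd_natCard (⟨a, le_normalizer (hT.le ha)⟩ :
          normalizer ((S : Subgroup G) : Set G))
        rw [← orderOf_coe, AA_ord ha ha1] at this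
        exact even_iff_two_dvd.2 this
      · have h1 : H35.IsPElt 2 t := ⟨1, by rw [pow_one]; exact ho⟩
        have h3 := mem_P_of_norm S h1 ht
        have h4 := mem_P_of_norm S (h1.conj g) hg
        obtain ⟨k, hk, e⟩ := H4.exists_smul_sylow_eq_of_le S (g • S) (hSL _) (hSL _)
        by_cases hkS : k ∈ normalizer ((S : Subgroup G) : Set G)
        · exact Sylow.smul_eq_iff_mem_normalizer.1 (by
            rw [← e]; exact Sylow.smul_eq_iff_mem_normalizer.2 hkS)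
        · have h5 := H4.conj_mem_smul_sylow (g := g) h3
          rw [← e] at h5
          have h6 : g * t * g⁻¹ ∈ (⊥ : Subgroup G) := hT.ti k hk hkS ▸ ⟨h4, h5⟩
          rw [mem_bot, mul_inv_eq_one, mul_eq_left] at h6
          rw [h6, orderOf_one] at ho
          omega
    have hbot : ∀ M : Subgroup G, M.Normal → M ≤ normalizer ((S : Subgroup G) : Set G) → M = ⊥ :=
      fun M hM hMS => by
        by_contra h0
        exact hT.nn ((normalClosure_le_normal (h.le_of_normal hO hnn h0)).trans hMS)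
    have hc := hbot _ inferInstance (normalCore_le _)
    have h2 : Rank2 G := H14.BSE.rank2_of_four_le (A := AA 2 (P : Subgroup G))
      (fun x hx y hy => AA_comm hy (AA_le _ hx)) hea.2 (lt_of_lt_of_le (by norm_num) hT.four)
    obtain ⟨t, ht, htH⟩ : ∃ t : G, t * t = 1 ∧ t ∉ normalizer ((S : Subgroup G) : Set G) := by
      by_contra hall
      push Not at hall
      have := hbot (normalClosure {a}) inferInstance (closure_le _ |>.2 fun y hy => by
        obtain ⟨w, hw, hc⟩ := Group.mem_conjugatesOfSet_iff.1 hy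
        obtain rfl : w = a := hw
        obtain ⟨g, rfl⟩ := isConj_iff.1 hc
        exact hall _ (by rw [← sq, conj_pow, ha.2]; simp))
      exact ha1 (mem_bot.1 (this ▸ subset_normalClosure rfl))
    obtain ⟨Q, hQ⟩ := H14.BSE.setup_of_core hH hc h2 ht htH
    haveI := H14.BSE.faithful_of_core hc
    obtain ⟨b, s, hS'⟩ := H14.BSE.setup_sylow hQ h2 P
    exact h.sz_of_setup hS' h2 hd
  · have e := hT.syl.max _ (AA_le _) hle P.isPGroup'
    refine absurd ⟨e.symm ▸ hea, fun x hx y hy hx1 hy1 => ?_⟩ hd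
    obtain ⟨g, -, hg⟩ := hT.trans x (e ▸ hx) hx1 y (e ▸ hy) hy1
    exact ⟨g, hg⟩

end H24.Gl
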